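import Mathlib.NumberTheory.Multiplicity
import Mathlib.Tactic

/-!
# TEAM HT-E (S3540, S3577), task (A7): the arithmetic of the case `s = 2`, `Full`
-/

set_option autoImplicit false

namespace Cfsg.Agent.H451.HT

open Finset

/-- the 2-part of `Q ^ (2 ^ a) - 1` -/
theorem val_pow {Q a : ℕ} (h4 : 4 ∣ Q - 1) (hQ : 1 < Q) (ha : 1 ≤ a) :
    padicValNat 2 (Q ^ (2 ^ a) - 1) = padicValNat 2 (Q - 1) + a := by
  have hodd : ¬ 2 ∣ Q := by
    intro h
    obtain ⟨c, hc⟩ := h4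
    omega
  have h2 : 2 ∣ Q - 1 := Dvd.dvd.trans (by norm_num) h4
  have key := padicValNat.pow_two_sub_pow (x := Q) (y := 1) hQ (by simpa using h2) hodd
    (n := 2 ^ a) (by positivity) (by
      rw [Nat.even_pow]
      exact ⟨even_two, by omega⟩)
  rw [one_pow, padicValNat.prime_pow] at key
  have h3 : padicValNat 2 (Q + 1) = 1 := by
    obtain ⟨c, hc⟩ := h4
    have e : Q + 1 = 2 * (2 * c + 1) := by omega
    rw [e, padicValNat.mul (by norm_num) (by omega), padicValNat.self (by norm_num),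
      padicValNat.eq_zero_of_not_dvd (by omega)]
  rw [h3] at key
  omega

theorem prod_sq_le (a : ℕ) : (∏ i ∈ range a, (2 ^ (i + 1) + 1)) ^ 2 ≤ 2 ^ (a * (a + 3)) := by
  induction a with
  | zero => simp
  | succ a ih =>
    rw [prod_range_succ, mul_pow]
    have h1 : (2 ^ (a + 1) + 1) ^ 2 ≤ 2 ^ (2 * a + 4) := by
      have h2 : 2 ^ (a + 1) + 1 ≤ 2 ^ (a + 2) := by
        have := Nat.one_le_two_pow (n := a + 1)
        rw [pow_succ 2 (a + 1)]
        omega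
      calc (2 ^ (a + 1) + 1) ^ 2 ≤ (2 ^ (a + 2)) ^ 2 := Nat.pow_le_pow_left h2 2
        _ = 2 ^ (2 * a + 4) := by rw [← pow_mul]; congr 1; ring
    calc _ ≤ 2 ^ (a * (a + 3)) * 2 ^ (2 * a + 4) := Nat.mul_le_mul ih h1
      _ = 2 ^ ((a + 1) * (a + 1 + 3)) := by rw [← pow_add]; congr 1; ring

theorem add_five_le : ∀ a : ℕ, 3 ≤ a → a + 5 ≤ 2 ^ a := by
  intro a ha
  induction a, ha using Nat.le_induction with
  | base => norm_num
  | succ n _ ih => rw [pow_succ]; omega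

/-- A7 -/
theorem full_two {a z Q m : ℕ} (ha : 2 ≤ a) (hz : 4 ∣ z) (hzQ : z ∣ Q - 1) (hQ : 1 < Q)
    (h1 : m ∣ 2 ^ a * (∏ i ∈ range a, (2 ^ (i + 1) + 1)) * (Q - 1)) (h2 : z * 2 ^ (2 * a) ∣ m)
    (h4 : m ∣ Q ^ (2 ^ a) - 1) (h5 : Q ^ (2 ^ a) ≤ 2 * m ^ 2) :
    a = 2 ∧ Q = 17 ∧ z = 4 ∧ (m = 320 ∨ m = 960) := by
  have h4Q : 4 ∣ Q - 1 := hz.trans hzQ
  have hprodpos : 0 < ∏ i ∈ range a, (2 ^ (i + 1) + 1) := prod_pos fun i _ => by positivity
  have hRpos : 0 < 2 ^ a * (∏ i ∈ range a, (2 ^ (i + 1) + 1)) * (Q - 1) := by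
    have : 0 < Q - 1 := by omega
    positivity
  have hmle : m ≤ 2 ^ a * (∏ i ∈ range a, (2 ^ (i + 1) + 1)) * (Q - 1) := Nat.le_of_dvd hRpos h1
  rcases Nat.lt_or_ge a 3 with h3 | h3
  · -- a = 2
    have ha2 : a = 2 := by omega
    subst ha2
    have e1 : (2 : ℕ) ^ 2 * (∏ i ∈ range 2, (2 ^ (i + 1) + 1)) = 60 := by decide
    rw [e1] at h1 hmle
    norm_num at h2 h4 h5
    obtain ⟨k, hk⟩ := h4Q
    have hQk : Q = 4 * k + 1 := by omega
    have hlt : Q < 85 := by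
      by_contra hge
      push Not at hge
      have h6 : Q ^ 4 ≤ 2 * (60 * (Q - 1)) ^ 2 :=
        h5.trans (Nat.mul_le_mul_left 2 (Nat.pow_le_pow_left hmle 2))
      have h7 : (60 * (Q - 1)) ^ 2 ≤ (60 * Q) ^ 2 := Nat.pow_le_pow_left (by omega) 2
      have h8 : 85 ^ 2 * Q ^ 2 ≤ Q ^ 2 * Q ^ 2 := Nat.mul_le_mul_right _ (Nat.pow_le_pow_left hge 2)
      have h9 : 0 < Q ^ 2 := by positivity
      nlinarith
    obtain ⟨w, hw⟩ := hz
    have h64 : 64 ∣ m := by
      refine Dvd.dvd.trans ?_ h2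
      exact ⟨w, by rw [hw]; ring⟩
    have hg := Nat.dvd_gcd h1 h4
    rw [hk] at hg
    have hk20 : k ≤ 20 := by omega
    have hk1 : 1 ≤ k := by omega
    subst hQk
    have hk4 : k = 4 := by
      by_contra hne
      have hdvd := h64.trans hg
      have hgpos : 0 < Nat.gcd (60 * (4 * k)) ((4 * k + 1) ^ 4 - 1) :=
        Nat.gcd_pos_of_pos_left _ (by omega)
      have hmg := Nat.le_of_dvd hgpos hg
      have h5' : (4 * k + 1) ^ 4 ≤ 2 * (Nat.gcd (60 * (4 * k)) ((4 * k + 1) ^ 4 - 1)) ^ 2 :=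
        h5.trans (Nat.mul_le_mul_left 2 (Nat.pow_le_pow_left hmg 2))
      clear hmg hgpos hg h5 h4 h1 hmle h2 h64
      interval_cases k <;> first | exact hne rfl | (revert hdvd h5'; decide)
    subst hk4
    norm_num at h4 h5 hzQ hg ⊢
    have hm960 : m ∣ 960 := hg
    have hz16 : z * 16 ∣ 83520 := h2.trans h4
    have hzle : z ≤ 16 := Nat.le_of_dvd (by norm_num) hzQ
    have hz4 : z = 4 := by
      have hw4 : w ≤ 4 := by omega
      subst hw
      have hw0 : w ≠ 0 := by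
        rintro rfl
        norm_num at hzQ
      interval_cases w
      · exact absurd rfl hw0
      · rfl
      · exfalso; revert hz16; decide
      · exfalso; revert hzQ; decide
      · exfalso; revert hz16; decide
    refine ⟨hz4, ?_⟩
    obtain ⟨c, rfl⟩ := h64
    have hc : c ≤ 15 := by
      have := Nat.le_of_dvd (by norm_num) hm960
      omega
    interval_cases c <;> first | (exfalso; revert h5; norm_num; done) | (exfalso; revert hm960; decide) | simp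
  · -- a ≥ 3
    exfalso
    have hm0 : m ≠ 0 := by
      rintro rfl
      have : 0 < Q ^ (2 ^ a) := by positivity
      simp at h5
      omega
    have hz0 : z ≠ 0 := by
      rintro rfl
      rw [zero_mul] at h2
      exact hm0 (Nat.eq_zero_of_zero_dvd h2)
    have hP : Q ^ (2 ^ a) - 1 ≠ 0 := by
      have : 1 < Q ^ (2 ^ a) := Nat.one_lt_pow (by positivity) hQ
      omega
    have hv : (a + 2) + a ≤ padicValNat 2 (Q ^ (2 ^ a) - 1) := by
      have hd : 2 ^ (2 * a + 2) ∣ Q ^ (2 ^ a) - 1 := by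
        refine Dvd.dvd.trans ?_ (h2.trans h4)
        rw [pow_add, mul_comm]
        exact Nat.mul_dvd_mul_right hz _
      have := (padicValNat_dvd_iff_le hP).mp hd
      omega
    rw [val_pow h4Q hQ (by omega)] at hv
    have hQ1 : 2 ^ (a + 2) ∣ Q - 1 := by
      rw [padicValNat_dvd_iff_le (by omega)]
      omega
    have hQge : 2 ^ (a + 2) ≤ Q := by
      have := Nat.le_of_dvd (by omega) hQ1
      omega
    have hm2 : m ^ 2 ≤ (2 ^ (2 * a) * 2 ^ (a * (a + 3))) * Q ^ 2 := by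
      calc m ^ 2 ≤ (2 ^ a * (∏ i ∈ range a, (2 ^ (i + 1) + 1)) * Q) ^ 2 :=
            Nat.pow_le_pow_left (hmle.trans (Nat.mul_le_mul_left _ (Nat.sub_le _ _))) 2
        _ = 2 ^ (2 * a) * (∏ i ∈ range a, (2 ^ (i + 1) + 1)) ^ 2 * Q ^ 2 := by
            rw [mul_pow, mul_pow, ← pow_mul, mul_comm a 2]
        _ ≤ _ := Nat.mul_le_mul_right _ (Nat.mul_le_mul_left _ (prod_sq_le a))
    have h2a : 2 ≤ 2 ^ a := by
      have := add_five_le a h3
      omega
    obtain ⟨e, he⟩ : ∃ e, 2 ^ a = e + 2 := ⟨2 ^ a - 2, by omega⟩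
    have h6 : Q ^ e * Q ^ 2 ≤ (2 ^ (1 + 2 * a + a * (a + 3))) * Q ^ 2 := by
      rw [← pow_add, ← he]
      calc Q ^ 2 ^ a ≤ 2 * m ^ 2 := h5
        _ ≤ 2 * ((2 ^ (2 * a) * 2 ^ (a * (a + 3))) * Q ^ 2) := Nat.mul_le_mul_left 2 hm2
        _ = _ := by rw [pow_add, pow_add, pow_one]; ring
    have h7 : Q ^ e ≤ 2 ^ (1 + 2 * a + a * (a + 3)) := Nat.le_of_mul_le_mul_right h6 (by positivity)
    have h8 : 2 ^ ((a + 2) * e) ≤ 2 ^ (1 + 2 * a + a * (a + 3)) := by
      rw [pow_mul]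
      exact (Nat.pow_le_pow_left hQge e).trans h7
    have h9 : (a + 2) * e ≤ 1 + 2 * a + a * (a + 3) := (Nat.pow_le_pow_iff_right (by norm_num)).mp h8
    have h10 : a + 3 ≤ e := by
      have := add_five_le a h3
      omega
    have h11 : (a + 2) * (a + 3) ≤ (a + 2) * e := Nat.mul_le_mul_left _ h10
    nlinarith

end Cfsg.Agent.H451.HT
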